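import Mathlib
import Groth.Agent.H54.OrdLocFin
import Groth.Agent.H20.BiratPullback

/-!
# Maximal points of closed subsets of Noetherian sober spaces (helper58; for S4980)
-/

set_option autoImplicit false
set_option linter.unusedSectionVars false
set_option linter.style.haveILetI false
universe u

open TopologicalSpace Topology

namespace Groth.Agent.H58.LenDVR

variable {T : Type*} [TopologicalSpace T] [T0Space T] [QuasiSober T]

/-- every point of a closed set is a specialization of a maximal point of that closed set. -/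
theorem exists_maxPoint_specializes {Z : Set T} (hZ : IsClosed Z) {w : T} (hw : w ∈ Z) :
    ∃ c ∈ Z, c ⤳ w ∧ ∀ u ∈ Z, u ⤳ c → u = c := by
  haveI : QuasiSober ↥Z := hZ.isClosedEmbedding_subtypeVal.quasiSober
  obtain ⟨c, hc, hcw⟩ := Groth.Agent.H20.exists_generic_specializes (⟨w, hw⟩ : ↥Z)
  refine ⟨c.1, c.2, (subtype_specializes_iff _ _).mp hcw, fun u hu huc => ?_⟩
  have h1 : (⟨u, hu⟩ : ↥Z) ⤳ c := (subtype_specializes_iff _ _).mpr huc
  have h2 := Groth.Agent.H20.eq_of_specializes_of_mem_irreducibleComponents hc h1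
  exact congrArg Subtype.val h2

/-- a closed subset of a Noetherian space has finitely many maximal points. -/
theorem finite_maxPoints [NoetherianSpace T] {Z : Set T} (hZ : IsClosed Z) :
    {x : T | x ∈ Z ∧ ∀ w ∈ Z, w ⤳ x → w = x}.Finite := by
  haveI : QuasiSober ↥Z := hZ.isClosedEmbedding_subtypeVal.quasiSober
  haveI : NoetherianSpace ↥Z := NoetherianSpace.set Z
  have hfin := Groth.Agent.H54.OrdLF.finite_maximal_points ↥Z
  refine Set.Finite.subset (hfin.image Subtype.val) ?_
  rintro x ⟨hx, hmax⟩
  refine ⟨⟨x, hx⟩, ?_, rfl⟩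
  intro t' ht'
  have h1 : t'.1 ⤳ x := (subtype_specializes_iff _ _).mp ht'
  exact Subtype.ext (hmax t'.1 t'.2 h1)

end Groth.Agent.H58.LenDVR
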