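import Mathlib
import Groth.Agent.H10.LengthOrd
import Groth.Agent.H58.SkOpen.EquiAlg

/-!
# Lengths along a regular parameter: the algebra (helper58; for S4980)

`R` Noetherian local, `M` a finite `R`-module, `a ∈ 𝔪` an `M`-regular element.

* `maximalIdeal_mem_ass_quot`: if `p ∈ Ass M` and `𝔪` is the only prime containing `p + (a)`, then
  `𝔪 ∈ Ass (M/aM)`.
* `sum_length_le`: if `𝔪` is the only prime of `Supp M` containing `a`, then
  `∑_{q ∈ T} length_{R_q} M_q ≤ length_R (M/aM)` for every finite set `T` of non-maximal primes of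
  `Supp M`.
-/

set_option autoImplicit false
set_option linter.unusedSectionVars false
set_option linter.style.haveILetI false
universe u

open IsLocalRing Pointwise

namespace Groth.Agent.H58.LenDVR

variable {R : Type u} [CommRing R] [IsNoetherianRing R] [IsLocalRing R]
  (M : Type u) [AddCommGroup M] [Module R M] [Module.Finite R M]

/-- **the Ass lemma**: `p ∈ Ass M`, `a` is `M`-regular, and the maximal ideal is the only prime
containing `p + (a)`; then the maximal ideal is associated to `M/aM`. -/
theorem maximalIdeal_mem_ass_quot (p : Ideal R) (hp : p ∈ associatedPrimes R M) (a : R)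
    (ham : a ∈ maximalIdeal R) (hreg : IsSMulRegular M a)
    (hmin : ∀ q : Ideal R, q.IsPrime → p ≤ q → a ∈ q → q = maximalIdeal R) :
    maximalIdeal R ∈ associatedPrimes R (M ⧸ a • (⊤ : Submodule R M)) := by
  classical
  haveI : IsNoetherian R M := isNoetherian_of_isNoetherianRing_of_finite R M
  obtain ⟨hpprime, m0, hm0⟩ := isAssociatedPrime_iff.mp (AssociatedPrimes.mem_iff.mp hp)
  -- the submodule of elements killed by `p`
  let N : Submodule R M :=
    { carrier := {m | ∀ r ∈ p, r • m = 0}
      add_mem' := fun {x y} hx hy r hr => by rw [smul_add, hx r hr, hy r hr, add_zero]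
      zero_mem' := fun r _ => smul_zero r
      smul_mem' := fun c x hx r hr => by rw [smul_comm, hx r hr, smul_zero] }
  have hm0N : m0 ∈ N := by
    intro r hr
    rw [hm0, Submodule.mem_colon_singleton] at hr
    simpa using hr
  have hm0ne : m0 ≠ 0 := by
    rintro rfl
    apply hpprime.ne_top
    rw [hm0, Ideal.eq_top_iff_one, Submodule.mem_colon_singleton]
    simp
  -- `N` is not contained in `aM`
  have hnot : ¬ N ≤ a • (⊤ : Submodule R M) := by
    intro hle
    have h1 : N ≤ (Ideal.span {a}) • N := by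
      intro n hn
      obtain ⟨m, -, rfl⟩ := (Submodule.mem_smul_pointwise_iff_exists _ _ _).mp (hle hn)
      have hmN : m ∈ N := by
        intro r hr
        apply hreg
        change a • r • m = a • (0 : M)
        rw [smul_zero, smul_comm]
        exact hn r hr
      exact Submodule.smul_mem_smul (Ideal.mem_span_singleton_self a) hmN
    have h2 : N = ⊥ := Submodule.eq_bot_of_le_smul_of_le_jacobson_bot (Ideal.span {a}) N
      (IsNoetherian.noetherian N) h1 (by
        rw [IsLocalRing.jacobson_eq_maximalIdeal ⊥ bot_ne_top, Ideal.span_singleton_le_iff_mem]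
        exact ham)
    rw [h2] at hm0N
    exact hm0ne ((Submodule.mem_bot R).mp hm0N)
  -- the image of `N` in `M/aM`
  let N' : Submodule R (M ⧸ a • (⊤ : Submodule R M)) := N.map (Submodule.mkQ _)
  have hN'ne : Nontrivial N' := by
    rw [Submodule.nontrivial_iff_ne_bot]
    intro hbot
    apply hnot
    intro n hn
    have h1 : Submodule.mkQ (a • (⊤ : Submodule R M)) n ∈ N' := Submodule.mem_map_of_mem hn
    rw [hbot, Submodule.mem_bot, Submodule.mkQ_apply, Submodule.Quotient.mk_eq_zero] at h1
    exact h1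
  obtain ⟨q, hq⟩ := associatedPrimes.nonempty R N'
  have hq' : q ∈ associatedPrimes R (M ⧸ a • (⊤ : Submodule R M)) :=
    associatedPrimes.subset_of_injective (f := N'.subtype) (Submodule.subtype_injective N') hq
  obtain ⟨hqprime, ⟨n', hn'⟩, hqn'⟩ := isAssociatedPrime_iff.mp (AssociatedPrimes.mem_iff.mp hq)
  obtain ⟨n, hn, rfl⟩ := hn'
  have hpq : p ≤ q := by
    intro r hr
    rw [hqn', Submodule.mem_colon_singleton, Submodule.mem_bot]
    apply Subtype.ext
    change r • Submodule.mkQ (a • (⊤ : Submodule R M)) n = 0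
    rw [← map_smul, hn r hr, map_zero]
  have haq : a ∈ q := by
    rw [hqn', Submodule.mem_colon_singleton, Submodule.mem_bot]
    apply Subtype.ext
    change a • Submodule.mkQ (a • (⊤ : Submodule R M)) n = 0
    rw [← map_smul, Submodule.mkQ_apply, Submodule.Quotient.mk_eq_zero]
    exact Submodule.smul_mem_pointwise_smul n a ⊤ Submodule.mem_top
  rw [← hmin q hqprime hpq haq]
  exact hq'

/-- **lengths at the non-maximal primes of the support are bounded by the length of `M/aM`.** -/
theorem sum_length_le (a : R) (ham : a ∈ maximalIdeal R) (hreg : IsSMulRegular M a)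
    (hsupp : ∀ q ∈ Module.support R M, a ∈ q.asIdeal → q.asIdeal = maximalIdeal R)
    (T : Finset (PrimeSpectrum R))
    (hT : ∀ q ∈ T, q ∈ Module.support R M ∧ q.asIdeal ≠ maximalIdeal R) :
    ∑ q ∈ T, Module.length (Localization.AtPrime q.asIdeal)
        (LocalizedModule q.asIdeal.primeCompl M) ≤
      Module.length R (M ⧸ a • (⊤ : Submodule R M)) := by
  classical
  set Z := Module.support R M with hZ
  have H1 : ∀ p ∈ Z, p.asIdeal ≠ maximalIdeal R → a ∉ p.asIdeal :=
    fun p hp hpm hap => hpm (hsupp p hp hap)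
  have H2 : ∀ p ∈ Z, p.asIdeal ≠ maximalIdeal R → ∀ q : PrimeSpectrum R, p ≤ q →
      q = p ∨ q.asIdeal = maximalIdeal R := by
    intro p hp hpm q hpq
    haveI := p.2
    haveI := q.2
    have hmin : maximalIdeal R ∈ (p.asIdeal ⊔ Ideal.span {a}).minimalPrimes := by
      refine ⟨⟨inferInstance, sup_le (le_maximalIdeal p.2.ne_top)
        ((Ideal.span_singleton_le_iff_mem _).mpr ham)⟩, ?_⟩
      rintro Q ⟨hQp, hQ⟩ hQm
      have hQs : (⟨Q, hQp⟩ : PrimeSpectrum R) ∈ Z :=
        Module.mem_support_mono (show p ≤ ⟨Q, hQp⟩ from le_sup_left.trans hQ) hp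
      have := hsupp ⟨Q, hQp⟩ hQs (hQ (Ideal.mem_sup_right (Ideal.mem_span_singleton_self a)))
      exact this.ge
    rcases Groth.Agent.H58.SkOpen.eq_or_eq_of_between a p.asIdeal (maximalIdeal R) q.asIdeal hmin
      hpq (le_maximalIdeal q.2.ne_top) with h | h
    · exact Or.inl (PrimeSpectrum.ext h)
    · exact Or.inr h
  have hfinite : {p : PrimeSpectrum R | p ∈ Z ∧ p.asIdeal ≠ maximalIdeal R}.Finite := by
    have hmin : (Module.annihilator R M).minimalPrimes.Finite :=
      Ideal.finite_minimalPrimes_of_isNoetherianRing R _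
    refine Set.Finite.subset (hmin.preimage (f := PrimeSpectrum.asIdeal)
      (fun p _ q _ h => PrimeSpectrum.ext h)) ?_
    rintro p ⟨hp, hpm⟩
    refine ⟨⟨p.2, (Module.mem_support_iff_of_finite.1 hp)⟩, ?_⟩
    rintro q ⟨hqprime, hq⟩ hqp
    have hqZ : (⟨q, hqprime⟩ : PrimeSpectrum R) ∈ Z := Module.mem_support_iff_of_finite.2 hq
    have hqm : q ≠ maximalIdeal R := by
      rintro rfl
      exact hpm (le_antisymm (le_maximalIdeal p.2.ne_top) hqp)
    rcases H2 ⟨q, hqprime⟩ hqZ hqm p hqp with h | h
    · rw [h]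
    · exact absurd h hpm
  have key := Groth.Agent.H10.main_induction (x := a) Z hfinite.toFinset
    (fun p hp => ((Set.Finite.mem_toFinset _).1 hp).2)
    (fun p hp hpm => (Set.Finite.mem_toFinset _).2 ⟨hp, hpm⟩) H1 H2 M (le_refl _)
  rw [key]
  have hsub : T ⊆ hfinite.toFinset := fun q hq => (Set.Finite.mem_toFinset _).2 (hT q hq)
  refine le_trans ?_ (le_add_self)
  refine le_trans ?_ (Finset.sum_le_sum_of_subset hsub)
  refine Finset.sum_le_sum fun q hq => ?_
  obtain ⟨hqs, hqm⟩ := hT q hq
  unfold Groth.Agent.H10.ordTerm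
  have hord : 1 ≤ Ring.ord (R ⧸ q.asIdeal) (Ideal.Quotient.mk q.asIdeal a) := by
    unfold Ring.ord
    rw [ENat.one_le_iff_ne_zero, ← pos_iff_ne_zero, Module.length_pos_iff,
      Submodule.Quotient.nontrivial_iff]
    intro htop
    have h1 : (1 : R ⧸ q.asIdeal) ∈ Ideal.span {Ideal.Quotient.mk q.asIdeal a} := by
      rw [htop]; trivial
    obtain ⟨c, hc⟩ := Ideal.mem_span_singleton'.mp h1
    obtain ⟨c, rfl⟩ := Ideal.Quotient.mk_surjective c
    rw [← map_mul, ← map_one (Ideal.Quotient.mk q.asIdeal), Ideal.Quotient.eq] at hc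
    have h2 : c * a - 1 ∈ maximalIdeal R := le_maximalIdeal q.2.ne_top hc
    have h3 : c * a ∈ maximalIdeal R := Ideal.mul_mem_left _ _ ham
    have h4 : (1 : R) ∈ maximalIdeal R := by
      have := Ideal.sub_mem _ h3 h2
      simpa using this
    exact (Ideal.ne_top_iff_one _).mp (maximalIdeal.isMaximal R).ne_top h4
  calc Module.length (Localization.AtPrime q.asIdeal) (LocalizedModule q.asIdeal.primeCompl M)
      = 1 * Module.length (Localization.AtPrime q.asIdeal)
          (LocalizedModule q.asIdeal.primeCompl M) := (one_mul _).symm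
    _ ≤ _ := by gcongr

end Groth.Agent.H58.LenDVR
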