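import Mathlib
import Groth.Agent.H99.FibModIso
import Groth.Agent.H99.AssBridge
import Groth.Agent.H29.AssTensorD

/-!
# Stalks of the fibre modules through the quotient model (helper58; for S4980)

For `f : X ⟶ Y`, a coherent `F` on `X` and a point `v` of the fibre `X_y` with image `x` in `X`:
nontriviality, length and "the closed point is associated" for the stalk at `v` of the restriction
of `F` to the fibre, in terms of the `O_{X,x}`-module `F_x / 𝔪_y F_x`.
-/

set_option autoImplicit false
set_option backward.isDefEq.respectTransparency.types false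
set_option linter.unusedSectionVars false
set_option linter.style.haveILetI false
universe u

open CategoryTheory CategoryTheory.Limits AlgebraicGeometry TopologicalSpace Opposite IsLocalRing
open Groth.Agent.H99.FibModIso Groth.Agent.H99.FibModProp Groth.Agent.H49.FibreStalk
  Groth.Agent.H99.ModPair

namespace Groth.Agent.H58.LenDVR

variable {X Y : Scheme.{u}} (f : X ⟶ Y) (F : X.Modules)

/-- the quotient model `F_x / 𝔪_{f x} F_x` of the stalk of the fibre module. -/
abbrev QMod (x : X) : Type u :=
  F.presheaf.stalk x ⧸ (fibreIdeal f x) •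
    (⊤ : Submodule (X.presheaf.stalk x) (F.presheaf.stalk x))

/-- nontriviality of the module. -/
def NontrivM (R : Type u) [CommRing R] (M : Type u) [AddCommGroup M] [Module R M] : Prop :=
  Nontrivial M

theorem isIsoPropM_nontrivM : IsIsoPropM NontrivM.{u} where
  iso := by
    intro R R' M M' _ _ _ _ _ _ σ φ h hM
    exact φ.toEquiv.nontrivial_congr.mp hM

/-- the length of the module is `n`. -/
def LengthEqM (n : ℕ∞) (R : Type u) [CommRing R] (M : Type u) [AddCommGroup M] [Module R M] :
    Prop :=
  Module.length R M = n

theorem isIsoPropM_lengthEqM (n : ℕ∞) : IsIsoPropM (LengthEqM.{u} n) where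
  iso := by
    intro R R' M M' _ _ _ _ _ _ σ φ h hM
    unfold LengthEqM at hM ⊢
    rw [← hM]
    exact (Groth.Agent.H29.AssTensor.length_eq_of_semilinear σ φ h).symm

/-- the stalk of the fibre module at `v` is nonzero iff the stalk of `F` at the image of `v` is. -/
theorem nontrivial_fibre_stalk_iff (hF : Coh.IsCoh F) (y : Y) (v : f.fiber y) :
    Nontrivial (((Scheme.Modules.pullback (f.fiberι y)).obj F).presheaf.stalk v) ↔
      Nontrivial (F.presheaf.stalk (f.fiberι y v)) := by
  haveI : F.IsQuasicoherent := hF.1
  set x := f.fiberι y v with hx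
  haveI := Groth.Agent.H13.finite_stalk_of_isCoh F hF x
  have h1 := fiber_stalk_iff_quotient' isIsoPropM_nontrivM f F y v
  unfold NontrivM at h1
  rw [h1]
  constructor
  · intro h
    by_contra hcon
    rw [not_nontrivial_iff_subsingleton] at hcon
    haveI := hcon
    exact not_subsingleton _ (inferInstance : Subsingleton (QMod f F x))
  · intro h
    rw [Submodule.Quotient.nontrivial_iff]
    intro htop
    have hbot : (⊤ : Submodule (X.presheaf.stalk x) (F.presheaf.stalk x)) = ⊥ :=
      Submodule.eq_bot_of_le_smul_of_le_jacobson_bot (fibreIdeal f x) ⊤ Module.Finite.fg_top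
        htop.ge ((fibreIdeal_le_maximalIdeal f x).trans (IsLocalRing.maximalIdeal_le_jacobson _))
    have : Subsingleton (F.presheaf.stalk x) :=
      (Submodule.subsingleton_iff (X.presheaf.stalk x)).mp (subsingleton_of_bot_eq_top hbot.symm)
    exact not_subsingleton _ this

/-- the length of the stalk of the fibre module is the length of the quotient model over
`O_{X,x}`. -/
theorem length_fibre_stalk_eq [F.IsQuasicoherent] (y : Y) (v : f.fiber y) :
    Module.length ((f.fiber y).presheaf.stalk v)
        (((Scheme.Modules.pullback (f.fiberι y)).obj F).presheaf.stalk v) =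
      Module.length (X.presheaf.stalk (f.fiberι y v)) (QMod f F (f.fiberι y v)) := by
  have h1 := (fiber_stalk_iff_quotient' (isIsoPropM_lengthEqM (Module.length
    ((f.fiber y).presheaf.stalk v)
    (((Scheme.Modules.pullback (f.fiberι y)).obj F).presheaf.stalk v))) f F y v).mp rfl
  unfold LengthEqM at h1
  rw [← h1]
  exact (Module.length_eq_of_surjective (S := X.presheaf.stalk (f.fiberι y v))
    (R := X.presheaf.stalk (f.fiberι y v) ⧸ fibreIdeal f (f.fiberι y v))
    (M := QMod f F (f.fiberι y v)) Ideal.Quotient.mk_surjective).symm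

/-- a nonzero element of the quotient model killed by the maximal ideal makes the point of the
fibre an associated point of the fibre module. -/
theorem mem_ass_of_killed [LocallyOfFiniteType f] [IsLocallyNoetherian X] (hF : Coh.IsCoh F)
    (y : Y) (v : f.fiber y) (n : QMod f F (f.fiberι y v)) (hn : n ≠ 0)
    (hkill : ∀ r ∈ maximalIdeal (X.presheaf.stalk (f.fiberι y v)), r • n = 0) :
    v ∈ AssSch.Ass ((Scheme.Modules.pullback (f.fiberι y)).obj F) := by
  haveI : F.IsQuasicoherent := hF.1
  let κ := IsLocalRing.ResidueField (Y.presheaf.stalk y)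
  let q : f.fiber y ⟶ Spec (CommRingCat.of κ) := f.fiberToSpecResidueField y
  haveI : LocallyOfFiniteType q :=
    inferInstanceAs (LocallyOfFiniteType (pullback.snd f (Y.fromSpecResidueField y)))
  haveI : IsLocallyNoetherian (f.fiber y) := LocallyOfFiniteType.isLocallyNoetherian q
  have hG : Coh.IsCoh ((Scheme.Modules.pullback (f.fiberι y)).obj F) :=
    isCoh_pullback _ F hF
  haveI := Groth.Agent.H13.finite_stalk_of_isCoh _ hG v
  rw [Groth.Agent.H99.AssBridge.mem_ass_fibre_iff f F hF y v]
  have h0 : DepthEqM 0 (X.presheaf.stalk (f.fiberι y v) ⧸ fibreIdeal f (f.fiberι y v))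
      (QMod f F (f.fiberι y v)) := by
    intro _ _ _
    refine Groth.Agent.H29.AB.depth_eq_zero_of_killed _ n hn ?_
    intro a ha
    obtain ⟨r, rfl⟩ := Ideal.Quotient.mk_surjective a
    have hr : r ∈ maximalIdeal (X.presheaf.stalk (f.fiberι y v)) := by
      rw [mem_maximalIdeal, mem_nonunits_iff] at ha ⊢
      intro hu
      exact ha (hu.map _)
    rw [← hkill r hr]
    exact algebraMap_smul (X.presheaf.stalk (f.fiberι y v) ⧸ fibreIdeal f (f.fiberι y v)) r n
  have h1 := (fiber_stalk_iff_quotient' (isIsoPropM_depthEqM 0) f F y v).mpr h0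
  exact h1

end Groth.Agent.H58.LenDVR
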