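import Mathlib
import Groth.Agent.H15.StalkLoc
import Groth.Agent.H8.QCohStalk
import Groth.Agent.H54.SecOrd
import Groth.Agent.H48.FlatDivAlg
import Groth.Agent.H99.RkField
import Groth.Agent.H58.SkOpen.RkPoint

/-!
# Stalks of a quasi-coherent module at a generization are localizations (helper58; for S4980)

For `x' ⤳ x` and a quasi-coherent `F`, the cospecialization map `F_x → F_{x'}` is the localization
of the `O_{X,x}`-module `F_x` at the prime `genPrime h`.  Consequences for lengths and supports.
-/

set_option autoImplicit false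
set_option linter.unusedSectionVars false
set_option linter.style.haveILetI false
universe u

open CategoryTheory CategoryTheory.Limits AlgebraicGeometry TopologicalSpace Opposite IsLocalRing
open Groth.Agent.H15.StalkLoc Groth.Agent.H8

namespace Groth.Agent.H58.LenDVR

variable {X : Scheme.{u}} (F : X.Modules)

/-- the `O_{X,x}`-module structure on `F_{x'}` for a generization `x'` of `x`. -/
@[reducible] noncomputable def spModule {x x' : X} (h : x' ⤳ x) :
    Module (X.presheaf.stalk x) (F.presheaf.stalk x') :=
  Module.compHom _ (X.presheaf.stalkSpecializes h).hom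

/-- the cospecialization map as an `O_{X,x}`-linear map. -/
noncomputable def spₗ {x x' : X} (h : x' ⤳ x) :
    letI := spModule F h
    F.presheaf.stalk x →ₗ[X.presheaf.stalk x] F.presheaf.stalk x' :=
  letI := spModule F h
  { toFun := fun t => (F.presheaf.stalkSpecializes h) t
    map_add' := fun a b => map_add _ a b
    map_smul' := fun r t => Groth.Agent.H54.SecOrd.stalkSpecializes_smul F h r t }

theorem spₗ_apply {x x' : X} (h : x' ⤳ x) (t : F.presheaf.stalk x) :
    spₗ F h t = (F.presheaf.stalkSpecializes h) t := rfl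

theorem spₗ_germ {x x' : X} (h : x' ⤳ x) {W : X.Opens} (hxW : x ∈ W) (hx'W : x' ∈ W)
    (n : Γ(F, W)) :
    spₗ F h (F.presheaf.germ W x hxW n) = F.presheaf.germ W x' hx'W n := by
  rw [spₗ_apply]
  exact TopCat.Presheaf.germ_stalkSpecializes_apply F.presheaf hxW h n

theorem sp_germ {x x' : X} (h : x' ⤳ x) {W : X.Opens} (hxW : x ∈ W) (hx'W : x' ∈ W)
    (t : Γ(X, W)) :
    (X.presheaf.stalkSpecializes h).hom (X.presheaf.germ W x hxW t) =
      X.presheaf.germ W x' hx'W t := by
  rw [← CommRingCat.comp_apply, X.presheaf.germ_stalkSpecializes]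

/-- **the cospecialization map of a quasi-coherent module is a localization.** -/
theorem isLocalizedModule_spₗ [F.IsQuasicoherent] {x x' : X} (h : x' ⤳ x) :
    letI := spModule F h
    IsLocalizedModule (genPrime h).primeCompl (spₗ F h) := by
  letI := spModule F h
  obtain ⟨W, hW, hxW, -⟩ := exists_isAffineOpen_mem_and_subset (x := x) (U := ⊤) trivial
  have hx'W : x' ∈ W := h.mem_open W.2 hxW
  letI mx := stalkModule F hxW
  letI mx' := stalkModule F hx'W
  haveI lx := isLocalizedModule_germₗ F hW hxW
  haveI lx' := isLocalizedModule_germₗ F hW hx'W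
  have hsmul : ∀ (r : X.presheaf.stalk x) (m' : F.presheaf.stalk x'),
      r • m' = (X.presheaf.stalkSpecializes h).hom r • m' := fun _ _ => rfl
  refine ⟨?_, ?_, ?_⟩
  · rintro ⟨s, hs⟩
    have hu : IsUnit ((X.presheaf.stalkSpecializes h).hom s) := by
      by_contra hn
      exact hs ((mem_genPrime_iff h s).mpr hn)
    rw [Module.End.isUnit_iff]
    obtain ⟨u, hu⟩ := hu
    refine ⟨fun a b hab => ?_, fun b => ⟨(↑u⁻¹ : X.presheaf.stalk x') • b, ?_⟩⟩
    · have h1 : ((X.presheaf.stalkSpecializes h).hom s) • a =
          ((X.presheaf.stalkSpecializes h).hom s) • b := hab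
      rw [← hu] at h1
      have := congrArg (fun z => (↑u⁻¹ : X.presheaf.stalk x') • z) h1
      simpa [smul_smul] using this
    · change ((X.presheaf.stalkSpecializes h).hom s) • ((↑u⁻¹ : X.presheaf.stalk x') • b) = b
      rw [← hu, smul_smul]
      simp
  · intro m'
    obtain ⟨⟨n, t⟩, hnt⟩ := IsLocalizedModule.surj
      (hW.primeIdealOf ⟨x', hx'W⟩).asIdeal.primeCompl (germₗ F hx'W) m'
    have hnt' : X.presheaf.germ W x' hx'W (t : Γ(X, W)) • m' = F.presheaf.germ W x' hx'W n := hnt
    have htu : IsUnit (X.presheaf.germ W x' hx'W (t : Γ(X, W))) := by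
      by_contra hn
      exact t.2 ((mem_primeIdealOf_iff hW hx'W _).mpr hn)
    have hmem : X.presheaf.germ W x hxW (t : Γ(X, W)) ∈ (genPrime h).primeCompl := by
      change _ ∉ genPrime h
      rw [mem_genPrime_iff, not_not, sp_germ h hxW hx'W]
      exact htu
    refine ⟨(F.presheaf.germ W x hxW n, ⟨_, hmem⟩), ?_⟩
    change X.presheaf.germ W x hxW (t : Γ(X, W)) • m' = spₗ F h (F.presheaf.germ W x hxW n)
    rw [spₗ_germ F h hxW hx'W, hsmul, sp_germ h hxW hx'W, hnt']
  · intro m₁ m₂ heq
    -- reduce to `m = m₁ - m₂`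
    have h0 : spₗ F h (m₁ - m₂) = 0 := by rw [map_sub, heq, sub_self]
    obtain ⟨⟨n, t⟩, hnt⟩ := IsLocalizedModule.surj
      (hW.primeIdealOf ⟨x, hxW⟩).asIdeal.primeCompl (germₗ F hxW) (m₁ - m₂)
    have hnt' : X.presheaf.germ W x hxW (t : Γ(X, W)) • (m₁ - m₂) =
        F.presheaf.germ W x hxW n := hnt
    have htu : IsUnit (X.presheaf.germ W x hxW (t : Γ(X, W))) := by
      by_contra hn
      exact t.2 ((mem_primeIdealOf_iff hW hxW _).mpr hn)
    have h1 : F.presheaf.germ W x' hx'W n = 0 := by
      rw [← spₗ_germ F h hxW hx'W, ← hnt', map_smul, h0, smul_zero]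
    have h2 : germₗ F hx'W n = germₗ F hx'W 0 := by
      rw [map_zero]; exact h1
    obtain ⟨c, hc⟩ := IsLocalizedModule.exists_of_eq
      (S := (hW.primeIdealOf ⟨x', hx'W⟩).asIdeal.primeCompl) (f := germₗ F hx'W) h2
    have hc' : (c : Γ(X, W)) • n = 0 := by
      have : (c : Γ(X, W)) • n = (c : Γ(X, W)) • (0 : Γ(F, W)) := hc
      rw [this, smul_zero]
    have hcu : IsUnit (X.presheaf.germ W x' hx'W (c : Γ(X, W))) := by
      by_contra hn
      exact c.2 ((mem_primeIdealOf_iff hW hx'W _).mpr hn)
    set s : X.presheaf.stalk x := X.presheaf.germ W x hxW (c : Γ(X, W)) *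
      X.presheaf.germ W x hxW (t : Γ(X, W)) with hs
    have hsmem : s ∈ (genPrime h).primeCompl := by
      change _ ∉ genPrime h
      rw [mem_genPrime_iff, not_not, hs, map_mul, sp_germ h hxW hx'W]
      exact hcu.mul (htu.map _)
    refine ⟨⟨s, hsmem⟩, ?_⟩
    have h3 : s • (m₁ - m₂) = 0 := by
      rw [hs, mul_smul, hnt', ← germ_smul, hc', map_zero]
    change s • m₁ = s • m₂
    rw [← sub_eq_zero, ← smul_sub]
    exact h3

/-- the length of the stalk at a generization, computed on the localization of the stalk. -/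
theorem length_stalk_eq_localized [F.IsQuasicoherent] {x x' : X} (h : x' ⤳ x) :
    Module.length (X.presheaf.stalk x') (F.presheaf.stalk x') =
      Module.length (Localization.AtPrime (genPrime h))
        (LocalizedModule (genPrime h).primeCompl (F.presheaf.stalk x)) := by
  letI := (X.presheaf.stalkSpecializes h).hom.toAlgebra
  letI := spModule F h
  haveI : IsLocalization.AtPrime (X.presheaf.stalk x') (genPrime h) :=
    isLocalization_stalkSpecializes h
  haveI : IsLocalization (genPrime h).primeCompl (X.presheaf.stalk x') :=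
    isLocalization_stalkSpecializes h
  haveI : IsScalarTower (X.presheaf.stalk x) (X.presheaf.stalk x') (F.presheaf.stalk x') :=
    IsScalarTower.of_algebraMap_smul fun _ _ => rfl
  haveI := isLocalizedModule_spₗ F h
  exact (Groth.Agent.H48.FlatDivAlg.length_localizedModule_eq (genPrime h).primeCompl
    (X.presheaf.stalk x') (spₗ F h)).symm

/-- the stalk at a generization is nonzero iff the corresponding prime is in the support. -/
theorem nontrivial_stalk_iff_mem_support [F.IsQuasicoherent] {x x' : X} (h : x' ⤳ x) :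
    Nontrivial (F.presheaf.stalk x') ↔
      (⟨genPrime h, inferInstance⟩ : PrimeSpectrum (X.presheaf.stalk x)) ∈
        Module.support (X.presheaf.stalk x) (F.presheaf.stalk x) := by
  letI := spModule F h
  haveI := isLocalizedModule_spₗ F h
  rw [Module.mem_support_iff]
  exact (IsLocalizedModule.iso (genPrime h).primeCompl (spₗ F h)).toEquiv.nontrivial_congr.symm

end Groth.Agent.H58.LenDVR
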