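import Groth.Agent.H58.LenDVR.Alg
import Groth.Agent.H58.LenDVR.StalkMod
import Groth.Agent.H58.LenDVR.Fibre
import Groth.Agent.H58.LenDVR.Top
import Groth.Agent.H58.SkOpen.EquiDVR
import Groth.Agent.H71.QCoh.SupportProper

/-!
# Maximal points of the supports of the fibre modules over a DVR (helper58; for S4980)

`g : Z ⟶ Spec V` locally of finite type over a discrete valuation ring, `F` coherent and flat over
`V`.  `MaxS I` is the set of maximal points of `Supp F` in the fibre over the prime `I` of `V`.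

* `exists_maxS_closed`: (for `g` closed) every point of `MaxS ⊥` specializes to a point of
  `MaxS 𝔪`, provided the closed fibre module has no embedded point (hypothesis `hE`).
* `sum_length_le_closed`: for `x ∈ MaxS 𝔪`, the lengths of the stalks at the points of `MaxS ⊥`
  specializing to `x` add up to at most the length of `F_x/ϖF_x`.
-/

set_option autoImplicit false
set_option backward.isDefEq.respectTransparency.types false
set_option linter.unusedSectionVars false
set_option linter.style.haveILetI false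
universe u

open CategoryTheory CategoryTheory.Limits AlgebraicGeometry TopologicalSpace Opposite IsLocalRing
  Topology Pointwise
open Groth.Agent.H15.StalkLoc Groth.Agent.H49.FibreStalk Groth.Agent.H58.SkOpen
  Groth.Agent.H99.RkField

namespace Groth.Agent.H58.LenDVR

section DVR

variable (V : Type u) [CommRing V] [IsDomain V] [IsDiscreteValuationRing V] {Z : Scheme.{u}}
  (g : Z ⟶ Spec (CommRingCat.of V)) (F : Z.Modules)

/-- maximal points of the support of `F` in the fibre over the prime `I`. -/
def MaxS (I : Ideal V) : Set Z :=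
  {x | (g x).asIdeal = I ∧ Nontrivial (F.presheaf.stalk x) ∧
    ∀ w : Z, (g w).asIdeal = I → Nontrivial (F.presheaf.stalk w) → w ⤳ x → w = x}

/-- a nonzero element of `F_x/𝔪_{g x}F_x` killed by the maximal ideal of `O_{Z,x}`. -/
def AssQ (x : Z) : Prop :=
  ∃ n : QMod g F x, n ≠ 0 ∧ ∀ r ∈ maximalIdeal (Z.presheaf.stalk x), r • n = 0

theorem isSMulRegular_rho_mod (a : Z) (hfl : FlatMod.IsFlatOverAt g F a) (v : V) (hv : v ≠ 0) :
    IsSMulRegular (F.presheaf.stalk a) (rho V g a v) := by
  letI a1 : Algebra V ((Spec (CommRingCat.of V)).presheaf.stalk (g a)) :=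
    StructureSheaf.stalkAlgebra V (g a)
  haveI l1 : IsLocalization.AtPrime ((Spec (CommRingCat.of V)).presheaf.stalk (g a))
      (g a).asIdeal := StructureSheaf.IsLocalization.to_stalk V (g a)
  haveI : Module.Flat V ((Spec (CommRingCat.of V)).presheaf.stalk (g a)) :=
    IsLocalization.flat _ (g a).asIdeal.primeCompl
  have hreg : IsSMulRegular V v := (isRegular_of_ne_zero hv).left.isSMulRegular
  have h1 : IsSMulRegular ((Spec (CommRingCat.of V)).presheaf.stalk (g a))
      (toSt V g a v) := hreg.of_flat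
  have h2 : IsRegular (toSt V g a v) :=
    (Commute.isRegular_iff (fun b => Commute.all _ b)).mpr h1.isLeftRegular
  letI : Module ((Spec (CommRingCat.of V)).presheaf.stalk (g a)) (F.presheaf.stalk a) :=
    FlatMod.moduleStalkOver g F a
  haveI : Module.Flat ((Spec (CommRingCat.of V)).presheaf.stalk (g a)) (F.presheaf.stalk a) := hfl
  have h3 : IsSMulRegular (F.presheaf.stalk a) (toSt V g a v) :=
    Module.Flat.isSMulRegular_of_isRegular h2
  intro m₁ m₂ h
  exact h3 h

theorem rho_mem_genPrime_iff {z t : Z} (ht : t ⤳ z) (ϖ : V) :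
    rho V g z ϖ ∈ genPrime ht ↔ ϖ ∈ (g t).asIdeal := by
  constructor
  · intro h
    by_contra hn
    rw [mem_genPrime_iff, stalkSpecializes_rho V g ht] at h
    exact h (isUnit_rho_of_notMem V g t ϖ hn)
  · exact rho_mem_genPrime V g ht ϖ

omit [IsDomain V] [IsDiscreteValuationRing V] in
theorem genPrime_self (x : Z) (h : x ⤳ x) :
    genPrime h = maximalIdeal (Z.presheaf.stalk x) := by
  ext a
  rw [mem_genPrime_iff, mem_maximalIdeal, mem_nonunits_iff]
  have : Z.presheaf.stalkSpecializes h = 𝟙 _ := TopCat.Presheaf.stalkSpecializes_refl _ x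
  rw [this]
  rfl

omit [IsDomain V] [IsDiscreteValuationRing V] in
theorem exists_point_of_mem_support [F.IsQuasicoherent] (x : Z)
    (q : PrimeSpectrum (Z.presheaf.stalk x))
    (hq : q ∈ Module.support (Z.presheaf.stalk x) (F.presheaf.stalk x)) :
    ∃ (w : Z) (h : w ⤳ x), genPrime h = q.asIdeal ∧ Nontrivial (F.presheaf.stalk w) := by
  haveI := q.2
  obtain ⟨w, h, hgen⟩ := exists_genPrime_eq x q.asIdeal
  refine ⟨w, h, hgen, ?_⟩
  rw [nontrivial_stalk_iff_mem_support F h]
  have : (⟨genPrime h, inferInstance⟩ : PrimeSpectrum (Z.presheaf.stalk x)) = q :=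
    PrimeSpectrum.ext hgen
  rw [this]
  exact hq

/-- at a maximal point of the support in the closed fibre, the closed point is the only point of
the support of `F_x` containing the uniformizer. -/
theorem eq_maximalIdeal_of_mem_support [F.IsQuasicoherent] (ϖ : V) (hϖ : Irreducible ϖ) (x : Z)
    (hx : x ∈ MaxS V g F (maximalIdeal V)) (q : PrimeSpectrum (Z.presheaf.stalk x))
    (hq : q ∈ Module.support (Z.presheaf.stalk x) (F.presheaf.stalk x))
    (hϖq : rho V g x ϖ ∈ q.asIdeal) : q.asIdeal = maximalIdeal (Z.presheaf.stalk x) := by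
  obtain ⟨w, h, hgen, hw⟩ := exists_point_of_mem_support F x q hq
  rw [← hgen, rho_mem_genPrime_iff] at hϖq
  have hgw := asIdeal_eq_of_mem V g w ϖ hϖ hϖq
  have hwx : w = x := hx.2.2 w hgw hw h
  subst hwx
  rw [← hgen]
  exact genPrime_self w h

variable [LocallyOfFiniteType g]

/-- the quotient model is the quotient by the uniformizer at points of the closed fibre. -/
noncomputable def qModEquiv (ϖ : V) (hϖ : Irreducible ϖ) (x : Z)
    (hx : (g x).asIdeal = maximalIdeal V) :
    QMod g F x ≃ₗ[Z.presheaf.stalk x]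
      (F.presheaf.stalk x ⧸ (rho V g x ϖ) •
        (⊤ : Submodule (Z.presheaf.stalk x) (F.presheaf.stalk x))) :=
  Submodule.quotEquivOfEq _ _ (by
    rw [fibreIdeal_of_closed V g x ϖ hϖ hx, Submodule.ideal_span_singleton_smul])

theorem assQ_of_mem_ass (ϖ : V) (hϖ : Irreducible ϖ) (x : Z)
    (hx : (g x).asIdeal = maximalIdeal V)
    (h : maximalIdeal (Z.presheaf.stalk x) ∈ associatedPrimes (Z.presheaf.stalk x)
      (F.presheaf.stalk x ⧸ (rho V g x ϖ) •
        (⊤ : Submodule (Z.presheaf.stalk x) (F.presheaf.stalk x)))) : AssQ V g F x := by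
  haveI : IsLocallyNoetherian Z := LocallyOfFiniteType.isLocallyNoetherian g
  obtain ⟨-, n, hn⟩ := isAssociatedPrime_iff.mp (AssociatedPrimes.mem_iff.mp h)
  refine ⟨(qModEquiv V g F ϖ hϖ x hx).symm n, ?_, ?_⟩
  · intro h0
    have hn0 : n = 0 := by
      have := congrArg (qModEquiv V g F ϖ hϖ x hx) h0
      simpa using this
    apply (maximalIdeal.isMaximal (Z.presheaf.stalk x)).ne_top
    rw [hn, hn0, Ideal.eq_top_iff_one, Submodule.mem_colon_singleton]
    simp
  · intro r hr
    rw [← map_smul]
    rw [hn, Submodule.mem_colon_singleton, Submodule.mem_bot] at hr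
    rw [hr, map_zero]

/-- a maximal point of the support in the closed fibre is an associated point of the fibre
module. -/
theorem assQ_of_maxS (hF : Coh.IsCoh F) (ϖ : V) (hϖ : Irreducible ϖ) (x : Z)
    (hx : x ∈ MaxS V g F (maximalIdeal V)) : AssQ V g F x := by
  haveI : F.IsQuasicoherent := hF.1
  haveI : IsLocallyNoetherian Z := LocallyOfFiniteType.isLocallyNoetherian g
  haveI := Groth.Agent.H13.finite_stalk_of_isCoh F hF x
  set a := rho V g x ϖ with ha
  have ham : a ∈ maximalIdeal (Z.presheaf.stalk x) := by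
    apply rho_mem_maximalIdeal V g x ϖ
    rw [hx.1, hϖ.maximalIdeal_eq]
    exact Ideal.mem_span_singleton_self ϖ
  haveI := hx.2.1
  -- the quotient is nontrivial by Nakayama
  haveI hnt : Nontrivial (F.presheaf.stalk x ⧸ a •
      (⊤ : Submodule (Z.presheaf.stalk x) (F.presheaf.stalk x))) := by
    rw [Submodule.Quotient.nontrivial_iff]
    intro htop
    have h1 : (⊤ : Submodule (Z.presheaf.stalk x) (F.presheaf.stalk x)) ≤
        Ideal.span {a} • ⊤ := by
      rw [Submodule.ideal_span_singleton_smul, htop]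
    have hbot : (⊤ : Submodule (Z.presheaf.stalk x) (F.presheaf.stalk x)) = ⊥ :=
      Submodule.eq_bot_of_le_smul_of_le_jacobson_bot (Ideal.span {a}) ⊤ Module.Finite.fg_top
        h1 (((Ideal.span_singleton_le_iff_mem _).mpr ham).trans
          (IsLocalRing.maximalIdeal_le_jacobson _))
    have : Subsingleton (F.presheaf.stalk x) :=
      (Submodule.subsingleton_iff (Z.presheaf.stalk x)).mp (subsingleton_of_bot_eq_top hbot.symm)
    exact not_subsingleton _ this
  obtain ⟨q, hq⟩ := associatedPrimes.nonempty (Z.presheaf.stalk x)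
    (F.presheaf.stalk x ⧸ a • (⊤ : Submodule (Z.presheaf.stalk x) (F.presheaf.stalk x)))
  obtain ⟨hqprime, n, hn⟩ := isAssociatedPrime_iff.mp (AssociatedPrimes.mem_iff.mp hq)
  obtain ⟨m, rfl⟩ := Submodule.Quotient.mk_surjective _ n
  have haq : a ∈ q := by
    rw [hn, Submodule.mem_colon_singleton, Submodule.mem_bot, ← Submodule.Quotient.mk_smul,
      Submodule.Quotient.mk_eq_zero]
    exact Submodule.smul_mem_pointwise_smul m a ⊤ Submodule.mem_top
  have hqs : (⟨q, hqprime⟩ : PrimeSpectrum (Z.presheaf.stalk x)) ∈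
      Module.support (Z.presheaf.stalk x) (F.presheaf.stalk x) := by
    rw [Module.mem_support_iff_of_finite]
    intro r hr
    change r ∈ q
    rw [hn, Submodule.mem_colon_singleton, Submodule.mem_bot, ← Submodule.Quotient.mk_smul,
      Module.mem_annihilator.mp hr m, Submodule.Quotient.mk_zero]
  have hqm := eq_maximalIdeal_of_mem_support V g F ϖ hϖ x hx ⟨q, hqprime⟩ hqs haq
  have hqm' : q = maximalIdeal (Z.presheaf.stalk x) := hqm
  rw [hqm'] at hq
  exact assQ_of_mem_ass V g F ϖ hϖ x hx.1 hq

/-- **the Ass lemma, geometric form**: an immediate specialization in the closed fibre of a maximal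
point of the support in the generic fibre is an associated point of the closed fibre module. -/
theorem assQ_of_specialization (hF : Coh.IsCoh F) (ϖ : V) (hϖ : Irreducible ϖ) {x x' : Z}
    (h : x' ⤳ x) (hx' : x' ∈ MaxS V g F ⊥) (hx : (g x).asIdeal = maximalIdeal V)
    (hfl : FlatMod.IsFlatOverAt g F x)
    (hmax : ∀ w : Z, x' ⤳ w → (g w).asIdeal = maximalIdeal V → w ⤳ x → w = x) :
    AssQ V g F x := by
  haveI : F.IsQuasicoherent := hF.1
  haveI : IsLocallyNoetherian Z := LocallyOfFiniteType.isLocallyNoetherian g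
  haveI := Groth.Agent.H13.finite_stalk_of_isCoh F hF x
  set a := rho V g x ϖ with ha
  have ham : a ∈ maximalIdeal (Z.presheaf.stalk x) := by
    apply rho_mem_maximalIdeal V g x ϖ
    rw [hx, hϖ.maximalIdeal_eq]
    exact Ideal.mem_span_singleton_self ϖ
  have hps : (⟨genPrime h, inferInstance⟩ : PrimeSpectrum (Z.presheaf.stalk x)) ∈
      Module.support (Z.presheaf.stalk x) (F.presheaf.stalk x) :=
    (nontrivial_stalk_iff_mem_support F h).mp hx'.2.1
  have hp : genPrime h ∈ associatedPrimes (Z.presheaf.stalk x) (F.presheaf.stalk x) := by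
    apply Module.associatedPrimes.minimalPrimes_annihilator_subset_associatedPrimes
    refine ⟨⟨inferInstance, Module.mem_support_iff_of_finite.mp hps⟩, ?_⟩
    rintro q ⟨hqprime, hq⟩ hqp
    have hqs : (⟨q, hqprime⟩ : PrimeSpectrum (Z.presheaf.stalk x)) ∈
        Module.support (Z.presheaf.stalk x) (F.presheaf.stalk x) :=
      Module.mem_support_iff_of_finite.mpr hq
    obtain ⟨w, hw, hgen, hwnt⟩ := exists_point_of_mem_support F x ⟨q, hqprime⟩ hqs
    have hgen' : genPrime hw = q := hgen
    have hwx' : w ⤳ x' := specializes_of_genPrime_le hw h (hgen'.le.trans hqp)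
    have hgw : (g w).asIdeal = ⊥ := by
      have h1 : g w ⤳ g x' := g.base.hom.map_specializes hwx'
      have h2 : (g w).asIdeal ≤ (g x').asIdeal :=
        (PrimeSpectrum.le_iff_specializes (g w) (g x')).mpr h1
      rw [hx'.1] at h2
      exact le_bot_iff.mp h2
    have : w = x' := hx'.2.2 w hgw hwnt hwx'
    subst this
    rw [← hgen']
  have hreg : IsSMulRegular (F.presheaf.stalk x) a :=
    isSMulRegular_rho_mod V g F x hfl ϖ hϖ.ne_zero
  have hmin : ∀ q : Ideal (Z.presheaf.stalk x), q.IsPrime → genPrime h ≤ q → a ∈ q →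
      q = maximalIdeal (Z.presheaf.stalk x) := by
    intro q hqprime hpq haq
    obtain ⟨w, hw, hgen⟩ := exists_genPrime_eq x q
    have hx'w : x' ⤳ w := specializes_of_genPrime_le h hw (hpq.trans hgen.ge)
    rw [← hgen, ha, rho_mem_genPrime_iff] at haq
    have hgw := asIdeal_eq_of_mem V g w ϖ hϖ haq
    have hwx : w = x := hmax w hx'w hgw hw
    subst hwx
    rw [← hgen]
    exact genPrime_self w hw
  have := maximalIdeal_mem_ass_quot (F.presheaf.stalk x) (genPrime h) hp a ham hreg hmin
  exact assQ_of_mem_ass V g F ϖ hϖ x hx this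

/-- **claim A**: every maximal point of the support in the generic fibre specializes to a maximal
point of the support in the closed fibre. -/
theorem exists_maxS_closed (hF : Coh.IsCoh F) (hcl : IsClosedMap g)
    (hfl : FlatMod.IsFlatOver g F)
    (hE : ∀ x c : Z, (g x).asIdeal = maximalIdeal V → (g c).asIdeal = maximalIdeal V →
      AssQ V g F x → AssQ V g F c → c ⤳ x → c = x)
    (x' : Z) (hx' : x' ∈ MaxS V g F ⊥) :
    ∃ x ∈ MaxS V g F (maximalIdeal V), x' ⤳ x := by
  haveI : F.IsQuasicoherent := hF.1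
  haveI : SheafOfModules.IsFiniteType (R := Z.ringCatSheaf) F := hF.2
  haveI : IsLocallyNoetherian Z := LocallyOfFiniteType.isLocallyNoetherian g
  obtain ⟨ϖ, hϖ⟩ := IsDiscreteValuationRing.exists_irreducible V
  have hclosedpt : IsClosed ({IsLocalRing.closedPoint V} : Set (PrimeSpectrum V)) :=
    (PrimeSpectrum.isClosed_singleton_iff_isMaximal _).mpr (IsLocalRing.maximalIdeal.isMaximal V)
  have hfib : ∀ w : Z, (g w).asIdeal = maximalIdeal V ↔ g w = IsLocalRing.closedPoint V :=
    fun w => ⟨fun h => PrimeSpectrum.ext h, fun h => by rw [h]; rfl⟩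
  have hfibcl : IsClosed {w : Z | (g w).asIdeal = maximalIdeal V} := by
    have : {w : Z | (g w).asIdeal = maximalIdeal V} =
        g ⁻¹' {IsLocalRing.closedPoint V} := by
      ext w
      exact hfib w
    rw [this]
    exact hclosedpt.preimage g.continuous
  -- a point of the closure of `x'` in the closed fibre
  obtain ⟨x₀, hx₀cl, hx₀⟩ : ∃ x₀ ∈ closure ({x'} : Set Z),
      (g x₀).asIdeal = maximalIdeal V := by
    have h1 : IsClosed (g '' closure ({x'} : Set Z)) := hcl _ isClosed_closure
    have h2 : g x' ∈ g '' closure ({x'} : Set Z) := ⟨x', subset_closure rfl, rfl⟩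
    have h3 : g x' ⤳ IsLocalRing.closedPoint V := by
      refine (PrimeSpectrum.le_iff_specializes (g x') (IsLocalRing.closedPoint V)).mp ?_
      change (g x').asIdeal ≤ _
      rw [hx'.1]
      exact bot_le
    obtain ⟨x₀, hx₀, hgx₀⟩ := h3.mem_closed h1 h2
    exact ⟨x₀, hx₀, (hfib x₀).mpr hgx₀⟩
  set W : Set Z := closure ({x'} : Set Z) ∩ {w : Z | (g w).asIdeal = maximalIdeal V} with hW
  have hWcl : IsClosed W := isClosed_closure.inter hfibcl
  obtain ⟨x, hxW, -, hxmax⟩ := exists_maxPoint_specializes hWcl (show x₀ ∈ W from ⟨hx₀cl, hx₀⟩)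
  have hx'x : x' ⤳ x := specializes_iff_mem_closure.mpr hxW.1
  have hgx : (g x).asIdeal = maximalIdeal V := hxW.2
  have hAx : AssQ V g F x := by
    refine assQ_of_specialization V g F hF ϖ hϖ hx'x hx' hgx (hfl x) ?_
    intro w hx'w hgw hwx
    exact hxmax w ⟨specializes_iff_mem_closure.mp hx'w, hgw⟩ hwx
  have hFx : Nontrivial (F.presheaf.stalk x) := by
    have hps := (nontrivial_stalk_iff_mem_support F hx'x).mp hx'.2.1
    by_contra hcon
    rw [not_nontrivial_iff_subsingleton] at hcon
    haveI := hcon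
    rw [Module.support_eq_empty] at hps
    exact hps
  refine ⟨x, ⟨hgx, hFx, ?_⟩, hx'x⟩
  intro w hgw hFw hwx
  -- a maximal point of the support in the closed fibre generizing `w`
  set Zs : Set Z := CohB1.support F ∩ {w : Z | (g w).asIdeal = maximalIdeal V} with hZs
  have hZscl : IsClosed Zs := (Groth.Agent.H71.QCoh.isClosed_support F).inter hfibcl
  have hmemZs : ∀ u : Z, u ∈ Zs ↔ Nontrivial (F.presheaf.stalk u) ∧
      (g u).asIdeal = maximalIdeal V := by
    intro u
    change (¬ Subsingleton _ ∧ _) ↔ _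
    rw [not_subsingleton_iff_nontrivial]
    rfl
  obtain ⟨c, hcZs, hcw, hcmax⟩ := exists_maxPoint_specializes hZscl
    (show w ∈ Zs from (hmemZs w).mpr ⟨hFw, hgw⟩)
  have hcM : c ∈ MaxS V g F (maximalIdeal V) := by
    refine ⟨((hmemZs c).mp hcZs).2, ((hmemZs c).mp hcZs).1, ?_⟩
    intro u hgu hFu huc
    exact hcmax u ((hmemZs u).mpr ⟨hFu, hgu⟩) huc
  have hAc : AssQ V g F c := assQ_of_maxS V g F hF ϖ hϖ c hcM
  have hcx : c = x := hE x c hgx hcM.1 hAx hAc (hcw.trans hwx)
  subst hcx
  exact (hwx.antisymm hcw).eq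

/-- **claim B**: the lengths of the stalks at the maximal points of the support in the generic
fibre which specialize to a maximal point `x` of the support in the closed fibre add up to at
most the length of `F_x/ϖF_x`. -/
theorem sum_length_le_closed (hF : Coh.IsCoh F) (x : Z)
    (hx : x ∈ MaxS V g F (maximalIdeal V)) (hfl : FlatMod.IsFlatOverAt g F x)
    (S' : Finset Z) (hS' : ∀ x' ∈ S', (g x').asIdeal = ⊥ ∧ Nontrivial (F.presheaf.stalk x') ∧
      x' ⤳ x) :
    ∑ x' ∈ S', Module.length (Z.presheaf.stalk x') (F.presheaf.stalk x') ≤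
      Module.length (Z.presheaf.stalk x) (QMod g F x) := by
  classical
  haveI : F.IsQuasicoherent := hF.1
  haveI : IsLocallyNoetherian Z := LocallyOfFiniteType.isLocallyNoetherian g
  haveI := Groth.Agent.H13.finite_stalk_of_isCoh F hF x
  obtain ⟨ϖ, hϖ⟩ := IsDiscreteValuationRing.exists_irreducible V
  set a := rho V g x ϖ with ha
  have ham : a ∈ maximalIdeal (Z.presheaf.stalk x) := by
    apply rho_mem_maximalIdeal V g x ϖ
    rw [hx.1, hϖ.maximalIdeal_eq]
    exact Ideal.mem_span_singleton_self ϖ
  have hreg : IsSMulRegular (F.presheaf.stalk x) a :=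
    isSMulRegular_rho_mod V g F x hfl ϖ hϖ.ne_zero
  let φ : Z → PrimeSpectrum (Z.presheaf.stalk x) := fun x' =>
    if h : x' ⤳ x then ⟨genPrime h, inferInstance⟩
    else ⟨maximalIdeal (Z.presheaf.stalk x), inferInstance⟩
  have hφ : ∀ (x' : Z) (h : x' ⤳ x), φ x' = ⟨genPrime h, inferInstance⟩ := by
    intro x' h
    simp only [φ, dif_pos h]
  have hinj : Set.InjOn φ (S' : Set Z) := by
    intro x₁ hx₁ x₂ hx₂ h12
    have h1 := (hS' x₁ hx₁).2.2
    have h2 := (hS' x₂ hx₂).2.2
    rw [hφ x₁ h1, hφ x₂ h2] at h12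
    have h12' : genPrime h1 = genPrime h2 := congrArg PrimeSpectrum.asIdeal h12
    exact ((specializes_of_genPrime_le h1 h2 h12'.le).antisymm
      (specializes_of_genPrime_le h2 h1 h12'.ge)).eq
  have hlen : ∀ x' ∈ S', Module.length (Z.presheaf.stalk x') (F.presheaf.stalk x') =
      Module.length (Localization.AtPrime (φ x').asIdeal)
        (LocalizedModule (φ x').asIdeal.primeCompl (F.presheaf.stalk x)) := by
    intro x' hx'
    have h1 := (hS' x' hx').2.2
    rw [hφ x' h1]
    exact length_stalk_eq_localized F h1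
  rw [Finset.sum_congr rfl hlen, ← Finset.sum_image (f := fun q : PrimeSpectrum (Z.presheaf.stalk x) =>
    Module.length (Localization.AtPrime q.asIdeal)
      (LocalizedModule q.asIdeal.primeCompl (F.presheaf.stalk x))) hinj]
  have key := sum_length_le (F.presheaf.stalk x) a ham hreg
    (fun q hq haq => eq_maximalIdeal_of_mem_support V g F ϖ hϖ x hx q hq haq)
    (S'.image φ) (by
      intro q hq
      obtain ⟨x', hx', rfl⟩ := Finset.mem_image.mp hq
      obtain ⟨hgx', hFx', h1⟩ := hS' x' hx'
      rw [hφ x' h1]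
      refine ⟨(nontrivial_stalk_iff_mem_support F h1).mp hFx', ?_⟩
      intro heq
      have heq' : genPrime h1 = maximalIdeal (Z.presheaf.stalk x) := heq
      have : a ∈ genPrime h1 := heq' ▸ ham
      rw [ha, rho_mem_genPrime_iff, hgx'] at this
      exact hϖ.ne_zero ((Submodule.mem_bot V).mp this))
  refine key.trans (le_of_eq ?_)
  exact (qModEquiv V g F ϖ hϖ x hx.1).length_eq.symm

end DVR

end Groth.Agent.H58.LenDVR
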