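import Groth.Agent.H58.LenDVR.Geom

/-!
# Lengths at the maximal points of the supports of the fibre modules over a DVR (helper58; S4980)
-/

set_option autoImplicit false
set_option backward.isDefEq.respectTransparency.types false
set_option linter.unusedSectionVars false
set_option linter.style.haveILetI false
universe u

open CategoryTheory CategoryTheory.Limits AlgebraicGeometry TopologicalSpace Opposite IsLocalRing
  Topology Pointwise
open Groth.Agent.H15.StalkLoc Groth.Agent.H49.FibreStalk Groth.Agent.H58.SkOpen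
  Groth.Agent.H99.RkField

namespace Groth.Agent.H58.LenDVR

section DVR

variable (V : Type u) [CommRing V] [IsDomain V] [IsDiscreteValuationRing V] {Z : Scheme.{u}}
  (g : Z ⟶ Spec (CommRingCat.of V)) (F : Z.Modules)

/-- the sum over the maximal points of the support of the fibre module, as a sum over points of
the total space. -/
theorem finsum_fibre_eq (hF : Coh.IsCoh F) (y : ↥(Spec (CommRingCat.of V))) :
    ∑ᶠ z : {v : ↥(g.fiber y) //
        Nontrivial (((Scheme.Modules.pullback (g.fiberι y)).obj F).presheaf.stalk v) ∧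
        ∀ w : ↥(g.fiber y),
          Nontrivial (((Scheme.Modules.pullback (g.fiberι y)).obj F).presheaf.stalk w) →
          v ∈ closure {w} → w = v},
        Module.length ((g.fiber y).presheaf.stalk z.1)
          (((Scheme.Modules.pullback (g.fiberι y)).obj F).presheaf.stalk z.1) =
      ∑ᶠ x ∈ MaxS V g F y.asIdeal, Module.length (Z.presheaf.stalk x) (QMod g F x) := by
  haveI : F.IsQuasicoherent := hF.1
  set P : ↥(g.fiber y) → Prop := fun v =>
    Nontrivial (((Scheme.Modules.pullback (g.fiberι y)).obj F).presheaf.stalk v) ∧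
      ∀ w : ↥(g.fiber y),
        Nontrivial (((Scheme.Modules.pullback (g.fiberι y)).obj F).presheaf.stalk w) →
        v ∈ closure {w} → w = v with hP
  have h1 := finsum_set_coe_eq_finsum_mem (f := fun v : ↥(g.fiber y) =>
    Module.length ((g.fiber y).presheaf.stalk v)
      (((Scheme.Modules.pullback (g.fiberι y)).obj F).presheaf.stalk v)) {v | P v}
  refine h1.trans ?_
  refine finsum_mem_eq_of_bijOn (g.fiberι y) ⟨?_, ?_, ?_⟩
    (fun v _ => length_fibre_stalk_eq g F y v)
  · rintro v ⟨hv1, hv2⟩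
    refine ⟨by rw [Groth.Agent.H99.FibForall.fiberι_apply' g y v],
      (nontrivial_fibre_stalk_iff g F hF y v).mp hv1, ?_⟩
    intro w hgw hFw hwv
    have hgw' : g w = y := PrimeSpectrum.ext hgw
    obtain ⟨w0, rfl⟩ := Groth.Agent.H99.FibEqui.mem_range_fiberι g y w hgw'
    have h2 : w0 ⤳ v := (Groth.Agent.H48.CycFib.fiberι_specializes_iff g y w0 v).mp hwv
    rw [hv2 w0 ((nontrivial_fibre_stalk_iff g F hF y w0).mpr hFw)
      (specializes_iff_mem_closure.mp h2)]
  · intro v _ v' _ h
    exact (g.fiberι y).isEmbedding.injective h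
  · rintro x ⟨hgx, hFx, hmax⟩
    have hgx' : g x = y := PrimeSpectrum.ext hgx
    obtain ⟨v, rfl⟩ := Groth.Agent.H99.FibEqui.mem_range_fiberι g y x hgx'
    refine ⟨v, ⟨(nontrivial_fibre_stalk_iff g F hF y v).mpr hFx, ?_⟩, rfl⟩
    intro w hw hvw
    have h2 : w ⤳ v := specializes_iff_mem_closure.mpr hvw
    have h3 : g.fiberι y w ⤳ g.fiberι y v :=
      (Groth.Agent.H48.CycFib.fiberι_specializes_iff g y w v).mpr h2
    have h4 := hmax (g.fiberι y w)
      (by rw [Groth.Agent.H99.FibForall.fiberι_apply' g y w])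
      ((nontrivial_fibre_stalk_iff g F hF y w).mp hw) h3
    exact (g.fiberι y).isEmbedding.injective h4

/-- over the generic point the quotient model is the stalk itself. -/
theorem length_qMod_generic (x : Z) (hx : (g x).asIdeal = ⊥) :
    Module.length (Z.presheaf.stalk x) (QMod g F x) =
      Module.length (Z.presheaf.stalk x) (F.presheaf.stalk x) := by
  have h0 : (fibreIdeal g x) • (⊤ : Submodule (Z.presheaf.stalk x) (F.presheaf.stalk x)) = ⊥ := by
    rw [fibreIdeal_of_generic V g x hx, Submodule.bot_smul]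
  exact (Submodule.quotEquivOfEqBot _ h0).length_eq

variable [LocallyOfFiniteType g]

theorem finite_maxS_closed [IsNoetherian Z] (hF : Coh.IsCoh F) :
    (MaxS V g F (maximalIdeal V)).Finite := by
  haveI : F.IsQuasicoherent := hF.1
  haveI : SheafOfModules.IsFiniteType (R := Z.ringCatSheaf) F := hF.2
  have hclosedpt : IsClosed ({IsLocalRing.closedPoint V} : Set (PrimeSpectrum V)) :=
    (PrimeSpectrum.isClosed_singleton_iff_isMaximal _).mpr (IsLocalRing.maximalIdeal.isMaximal V)
  have hfib : ∀ w : Z, (g w).asIdeal = maximalIdeal V ↔ g w = IsLocalRing.closedPoint V :=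
    fun w => ⟨fun h => PrimeSpectrum.ext h, fun h => by rw [h]; rfl⟩
  have hfibcl : IsClosed {w : Z | (g w).asIdeal = maximalIdeal V} := by
    have : {w : Z | (g w).asIdeal = maximalIdeal V} =
        g ⁻¹' {IsLocalRing.closedPoint V} := by
      ext w
      exact hfib w
    rw [this]
    exact hclosedpt.preimage g.continuous
  have hZscl : IsClosed (CohB1.support F ∩ {w : Z | (g w).asIdeal = maximalIdeal V}) :=
    (Groth.Agent.H71.QCoh.isClosed_support F).inter hfibcl
  refine (finite_maxPoints hZscl).subset ?_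
  rintro x ⟨hgx, hFx, hmax⟩
  refine ⟨⟨not_subsingleton_iff_nontrivial.mpr hFx, hgx⟩, ?_⟩
  rintro w ⟨hw1, hw2⟩ hwx
  exact hmax w hw2 (not_subsingleton_iff_nontrivial.mp hw1) hwx

theorem finite_maxS_generic [IsNoetherian Z] (hF : Coh.IsCoh F) :
    (MaxS V g F ⊥).Finite := by
  haveI : F.IsQuasicoherent := hF.1
  haveI : SheafOfModules.IsFiniteType (R := Z.ringCatSheaf) F := hF.2
  refine (finite_maxPoints (Groth.Agent.H71.QCoh.isClosed_support F)).subset ?_
  rintro x ⟨hgx, hFx, hmax⟩
  refine ⟨not_subsingleton_iff_nontrivial.mpr hFx, ?_⟩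
  intro w hw hwx
  have hgw : (g w).asIdeal = ⊥ := by
    have h1 : g w ⤳ g x := g.base.hom.map_specializes hwx
    have h2 : (g w).asIdeal ≤ (g x).asIdeal :=
      (PrimeSpectrum.le_iff_specializes (g w) (g x)).mpr h1
    rw [hgx] at h2
    exact le_bot_iff.mp h2
  exact hmax w hgw (not_subsingleton_iff_nontrivial.mp hw) hwx

/-- **the inequality on the total space.** -/
theorem finsum_maxS_le [IsNoetherian Z] (hF : Coh.IsCoh F) (hcl : IsClosedMap g)
    (hfl : FlatMod.IsFlatOver g F)
    (hE : ∀ x c : Z, (g x).asIdeal = maximalIdeal V → (g c).asIdeal = maximalIdeal V →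
      AssQ V g F x → AssQ V g F c → c ⤳ x → c = x) :
    ∑ᶠ x ∈ MaxS V g F ⊥, Module.length (Z.presheaf.stalk x) (QMod g F x) ≤
      ∑ᶠ x ∈ MaxS V g F (maximalIdeal V), Module.length (Z.presheaf.stalk x) (QMod g F x) := by
  classical
  have hfinT := finite_maxS_closed V g F hF
  have hfinT' := finite_maxS_generic V g F hF
  rw [finsum_mem_eq_finite_toFinset_sum _ hfinT', finsum_mem_eq_finite_toFinset_sum _ hfinT]
  have hA : ∀ x' ∈ hfinT'.toFinset, ∃ x ∈ hfinT.toFinset, x' ⤳ x := by
    intro x' hx'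
    obtain ⟨x, hx, hsp⟩ := exists_maxS_closed V g F hF hcl hfl hE x'
      ((Set.Finite.mem_toFinset _).mp hx')
    exact ⟨x, (Set.Finite.mem_toFinset _).mpr hx, hsp⟩
  choose! φ hφmem hφsp using hA
  rw [← Finset.sum_fiberwise_of_maps_to hφmem]
  refine Finset.sum_le_sum fun x hx => ?_
  have hxM : x ∈ MaxS V g F (maximalIdeal V) := (Set.Finite.mem_toFinset _).mp hx
  have hS' : ∀ x' ∈ hfinT'.toFinset.filter (fun x' => φ x' = x),
      (g x').asIdeal = ⊥ ∧ Nontrivial (F.presheaf.stalk x') ∧ x' ⤳ x := by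
    intro x' hx'
    obtain ⟨h1, h2⟩ := Finset.mem_filter.mp hx'
    have h3 : x' ∈ MaxS V g F ⊥ := (Set.Finite.mem_toFinset _).mp h1
    exact ⟨h3.1, h3.2.1, h2 ▸ hφsp x' h1⟩
  have key := sum_length_le_closed V g F hF x hxM (hfl x) _ hS'
  refine le_trans (le_of_eq ?_) key
  refine Finset.sum_congr rfl fun x' hx' => ?_
  exact length_qMod_generic V g F x' (hS' x' hx').1

end DVR

end Groth.Agent.H58.LenDVR
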