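import Groth.Agent.H58.LenDVR.Main

/-!
# S4980: lengths of the generic fibre module are bounded by those of the closed fibre module
(helper58)
-/

set_option autoImplicit false
set_option backward.isDefEq.respectTransparency.types false
set_option linter.unusedSectionVars false
set_option linter.style.haveILetI false
universe u

open CategoryTheory CategoryTheory.Limits AlgebraicGeometry TopologicalSpace Opposite IsLocalRing
  Topology Pointwise
open Groth.Agent.H15.StalkLoc Groth.Agent.H49.FibreStalk Groth.Agent.H58.SkOpen
  Groth.Agent.H99.RkField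

namespace Groth.Agent.H58.LenDVR

theorem main4980 {A : Type u} [CommRing A] [IsDomain A]
    [IsDiscreteValuationRing A] {X : Scheme.{u}} (f : X ⟶ Spec (CommRingCat.of A)) [IsProper f]
    (F : X.Modules) (hF : Coh.IsCoh F) (hflat : FlatMod.IsFlatOver f F)
    (hemb : AssSch.NoEmbedded
      ((Scheme.Modules.pullback (f.fiberι (IsLocalRing.closedPoint A))).obj F)) :
    ∑ᶠ z' : {v : ↥(f.fiber (genericPoint (Spec (CommRingCat.of A)))) //
        Nontrivial (((Scheme.Modules.pullback (f.fiberι
          (genericPoint (Spec (CommRingCat.of A))))).obj F).presheaf.stalk v) ∧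
        ∀ w : ↥(f.fiber (genericPoint (Spec (CommRingCat.of A)))),
          Nontrivial (((Scheme.Modules.pullback (f.fiberι
            (genericPoint (Spec (CommRingCat.of A))))).obj F).presheaf.stalk w) →
          v ∈ closure {w} → w = v},
        Module.length ((f.fiber (genericPoint (Spec (CommRingCat.of A)))).presheaf.stalk z'.1)
          (((Scheme.Modules.pullback (f.fiberι
            (genericPoint (Spec (CommRingCat.of A))))).obj F).presheaf.stalk z'.1) ≤
      ∑ᶠ z : {v : ↥(f.fiber (IsLocalRing.closedPoint A : ↥(Spec (CommRingCat.of A)))) //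
        Nontrivial (((Scheme.Modules.pullback (f.fiberι
          (IsLocalRing.closedPoint A : ↥(Spec (CommRingCat.of A))))).obj F).presheaf.stalk v) ∧
        ∀ w : ↥(f.fiber (IsLocalRing.closedPoint A : ↥(Spec (CommRingCat.of A)))),
          Nontrivial (((Scheme.Modules.pullback (f.fiberι
            (IsLocalRing.closedPoint A : ↥(Spec (CommRingCat.of A))))).obj F).presheaf.stalk w) →
          v ∈ closure {w} → w = v},
        Module.length ((f.fiber
            (IsLocalRing.closedPoint A : ↥(Spec (CommRingCat.of A)))).presheaf.stalk z.1)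
          (((Scheme.Modules.pullback (f.fiberι
            (IsLocalRing.closedPoint A : ↥(Spec (CommRingCat.of A))))).obj F).presheaf.stalk
              z.1) := by
  haveI : IsLocallyNoetherian X := LocallyOfFiniteType.isLocallyNoetherian f
  haveI : CompactSpace X := QuasiCompact.compactSpace_of_compactSpace f
  haveI : IsNoetherian X := {}
  rw [finsum_fibre_eq A f F hF, finsum_fibre_eq A f F hF]
  have hgen : (genericPoint (Spec (CommRingCat.of A))).asIdeal = ⊥ := by
    rw [genericPoint_eq_bot_of_affine (CommRingCat.of A)]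
    rfl
  have hcls : (IsLocalRing.closedPoint A : ↥(Spec (CommRingCat.of A))).asIdeal =
      maximalIdeal A := rfl
  rw [hgen, hcls]
  refine finsum_maxS_le A f F hF (f.isClosedMap) hflat ?_
  intro x c hgx hgc hAx hAc hcx
  have hgx' : f x = IsLocalRing.closedPoint A := PrimeSpectrum.ext hgx
  have hgc' : f c = IsLocalRing.closedPoint A := PrimeSpectrum.ext hgc
  obtain ⟨vx, rfl⟩ := Groth.Agent.H99.FibEqui.mem_range_fiberι f _ x hgx'
  obtain ⟨vc, rfl⟩ := Groth.Agent.H99.FibEqui.mem_range_fiberι f _ c hgc'
  obtain ⟨nx, hnx, hkx⟩ := hAx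
  obtain ⟨nc, hnc, hkc⟩ := hAc
  have h1 := mem_ass_of_killed f F hF _ vx nx hnx hkx
  have h2 := mem_ass_of_killed f F hF _ vc nc hnc hkc
  have h3 : vc ⤳ vx := (Groth.Agent.H48.CycFib.fiberι_specializes_iff f _ vc vx).mp hcx
  rw [hemb vx h1 vc h2 h3]

end Groth.Agent.H58.LenDVR
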